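import Groth.Agent.CartierOp.Tw
import Groth.Agent.SmoothRed.Basic

/-!
The inverse Cartier map of a smooth algebra over a perfect ring is a bijection onto the closed classes.
-/

set_option autoImplicit false
set_option backward.isDefEq.respectTransparency false
set_option linter.style.haveILetI false
set_option linter.unusedSectionVars false

universe u

open exteriorPower

namespace Groth.Agent.CartierOp

variable {A B : Type u} [CommRing A] [CommRing B] [Algebra A B]

lemma exists_coords [Algebra.Smooth A B] (q : Ideal B) [q.IsPrime] :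
    ∃ g ∉ q, ∃ (n : ℕ) (t : Fin n → Localization.Away g)
      (b : Module.Basis (Fin n) (Localization.Away g) (Ω[Localization.Away g⁄A])),
      ∀ i, b i = KaehlerDifferential.D A (Localization.Away g) (t i) := by
  classical
  obtain ⟨κ, a, b, hb⟩ := Module.exists_basis_of_span_of_flat _
    (KaehlerDifferential.span_range_map_derivation_of_isLocalization A B (Localization.AtPrime q)
      q.primeCompl)
  let e : (κ →₀ B) →ₗ[B] Ω[B⁄A] :=
    Finsupp.linearCombination B fun i : κ ↦ KaehlerDifferential.D A B (a i)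
  let l₁ : (κ →₀ B) →ₗ[B] (κ →₀ Localization.AtPrime q) :=
    Finsupp.mapRange.linearMap (Algebra.linearMap B (Localization.AtPrime q))
  let l₂ : Ω[B⁄A] →ₗ[B] Ω[Localization.AtPrime q⁄A] :=
    KaehlerDifferential.map A A B (Localization.AtPrime q)
  let eₚ : (κ →₀ Localization.AtPrime q) →ₗ[Localization.AtPrime q] Ω[Localization.AtPrime q⁄A] :=
    IsLocalizedModule.mapExtendScalars q.primeCompl l₁ l₂ (Localization.AtPrime q) e
  have : eₚ = b.repr.symm := by
    ext i
    trans IsLocalizedModule.map q.primeCompl l₁ l₂ e <| l₁ <| Finsupp.single i 1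
    · simp [eₚ, -IsLocalizedModule.map_apply, l₁]
    · simp [l₂, e, hb]
  have heₚ : Function.Bijective eₚ := this ▸ b.repr.symm.bijective
  have : Finite κ := Module.Finite.finite_basis b
  obtain ⟨g, hg, h⟩ := Module.FinitePresentation.exists_notMem_bijective e q l₁ l₂ heₚ
  let l₁ₜ : (κ →₀ B) →ₗ[B] (κ →₀ Localization.Away g) :=
    Finsupp.mapRange.linearMap (Algebra.linearMap B _)
  let l₂ₜ : Ω[B⁄A] →ₗ[B] Ω[Localization.Away g⁄A] :=
    KaehlerDifferential.map A A B (Localization.Away g)
  rw [← IsLocalizedModule.map_bijective_iff_localizedModuleMap_bijective l₁ₜ l₂ₜ] at h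
  let eₜ' : (κ →₀ Localization.Away g) →ₗ[Localization.Away g] Ω[Localization.Away g⁄A] :=
    IsLocalizedModule.mapExtendScalars (Submonoid.powers g) l₁ₜ l₂ₜ (Localization.Away g) e
  haveI : Fintype κ := Fintype.ofFinite κ
  let σ := (Fintype.equivFin κ).symm
  let bg : Module.Basis κ (Localization.Away g) (Ω[Localization.Away g⁄A]) :=
    .ofRepr (LinearEquiv.ofBijective eₜ' h).symm
  refine ⟨g, hg, Fintype.card κ, fun i => algebraMap B _ (a (σ i)), bg.reindex σ.symm, fun i => ?_⟩
  rw [Module.Basis.reindex_apply]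
  simp +zetaDelta [IsLocalizedModule.map_linearCombination]

section Closed

variable {B' : Type u} [CommRing B'] [Algebra A B'] [Algebra B B'] [IsScalarTower A B B']

/-- The pairing of two derivations with two-forms. -/
noncomputable def pair2 (φ ψ : Ω[B⁄A] →ₗ[B] B') : ↥(⋀[B]^2 (Ω[B⁄A])) →ₗ[B] B' :=
  alternatingMapLinearEquiv
    { toFun := fun v => φ (v 0) * ψ (v 1) - ψ (v 0) * φ (v 1)
      map_update_add' := fun {_} v i x y => by
        fin_cases i <;> simp [Function.update_apply, map_add] <;> ring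
      map_update_smul' := fun {_} v i c x => by
        fin_cases i <;> simp [Function.update_apply, map_smul, Algebra.smul_def] <;> ring
      map_eq_zero_of_eq' := fun v i j h hij => by
        fin_cases i <;> fin_cases j <;>
          first
          | exact absurd rfl hij
          | (simp at h; rw [h]; ring) }

variable {d : ∀ q : ℕ, ↥(⋀[B]^q (Ω[B⁄A])) →ₗ[A] ↥(⋀[B]^(q + 1) (Ω[B⁄A]))}
  (hd : DeRham.IsDiff (KaehlerDifferential.D A B) d)

include hd in
lemma pair2_d (X Y : Derivation A B' B') (hXY : ∀ b, X (Y b) = Y (X b)) (ω : Ω[B⁄A]) :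
    pair2 (X.compAlgebraMap B).liftKaehlerDifferential (Y.compAlgebraMap B).liftKaehlerDifferential
        (d 1 (form ω)) =
      X ((Y.compAlgebraMap B).liftKaehlerDifferential ω) -
        Y ((X.compAlgebraMap B).liftKaehlerDifferential ω) := by
  have hX : ∀ b, (X.compAlgebraMap B) b = X (algebraMap B B' b) := fun b => rfl
  have hY : ∀ b, (Y.compAlgebraMap B) b = Y (algebraMap B B' b) := fun b => rfl
  obtain ⟨x, rfl⟩ : ∃ x, oneEquiv B (Ω[B⁄A]) x = ω := (oneEquiv B (Ω[B⁄A])).surjective ω
  simp only [form, LinearEquiv.symm_apply_apply]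
  induction x using DRKaehler.induction with
  | h0 => simp
  | hadd x y hx hy => simp only [map_add, hx, hy]; ring
  | hgen b₀ b =>
    rw [hd.1, pair2, alternatingMapLinearEquiv_apply_ιMulti, DeRham.gen, map_smul, oneEquiv_ιMulti,
      LinearMap.map_smul, LinearMap.map_smul, Derivation.liftKaehlerDifferential_comp_D,
      Derivation.liftKaehlerDifferential_comp_D, Algebra.smul_def, Algebra.smul_def,
      Derivation.leibniz, Derivation.leibniz]
    simp only [AlternatingMap.coe_mk, MultilinearMap.coe_mk, Fin.cons_zero, Fin.cons_one,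
      Derivation.liftKaehlerDifferential_comp_D, hX, hY, smul_eq_mul, hXY]
    ring

lemma coord_map {n : ℕ} (b : Module.Basis (Fin n) B' (Ω[B'⁄A])) (i : Fin n) (ω : Ω[B⁄A]) :
    b.coord i (KaehlerDifferential.map A A B B' ω) =
      ((pd b i).compAlgebraMap B).liftKaehlerDifferential ω := by
  have hω : ω ∈ Submodule.span B (Set.range (KaehlerDifferential.D A B)) := by
    rw [KaehlerDifferential.span_range_derivation]; trivial
  induction hω using Submodule.span_induction with
  | mem z hz =>
    obtain ⟨f, rfl⟩ := hz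
    rw [KaehlerDifferential.map_D, Derivation.liftKaehlerDifferential_comp_D]
    rfl
  | zero => simp
  | add a c _ _ ha hc => simp only [map_add, ha, hc]
  | smul c a _ ha =>
    rw [LinearMap.map_smul, ← algebraMap_smul B' c (KaehlerDifferential.map A A B B' a),
      LinearMap.map_smul, ha, algebraMap_smul, LinearMap.map_smul]

include hd in
lemma sym_of_closed {n : ℕ} {t : Fin n → B'} (b : Module.Basis (Fin n) B' (Ω[B'⁄A]))
    (hb : ∀ i, b i = KaehlerDifferential.D A B' (t i)) {ω : Ω[B⁄A]} (hω : d 1 (form ω) = 0) :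
    Sym b fun i => b.coord i (KaehlerDifferential.map A A B B' ω) := by
  intro i j
  simp only [coord_map]
  have h := pair2_d hd (pd b j) (pd b i) (fun x => pd_comm b hb j i x) ω
  rw [hω, map_zero] at h
  exact sub_eq_zero.1 h.symm

end Closed

section Map

variable (p : ℕ) [Fact p.Prime] [CharP B p]
variable (B' : Type u) [CommRing B'] [Algebra A B'] [Algebra B B'] [IsScalarTower A B B'] [CharP B' p]

/-- Functoriality of classes. -/
noncomputable def clsMap : Tw A B p →+ Tw A B' p :=
  QuotientAddGroup.map _ _ (KaehlerDifferential.map A A B B').toAddMonoidHom fun ω hω => by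
    obtain ⟨h, rfl⟩ := (hω : ω ∈ exactForms A B)
    exact ⟨algebraMap B B' h, (KaehlerDifferential.map_D A A B B' h).symm⟩

lemma clsMap_cls (ω : Ω[B⁄A]) :
    clsMap p B' (cls p ω) = cls p (KaehlerDifferential.map A A B B' ω) := rfl

lemma clsMap_smul (c : B) (x : Tw A B p) : clsMap p B' (c • x) = algebraMap B B' c • clsMap p B' x := by
  obtain ⟨ω, rfl⟩ := cls_surjective x
  rw [smul_cls, clsMap_cls, clsMap_cls, smul_cls, map_smul, ← algebraMap_smul B' (c ^ p), map_pow]

lemma clsMap_invCartier (θ : Ω[B⁄A]) :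
    clsMap p B' (invCartier A B p θ) = invCartier A B' p (KaehlerDifferential.map A A B B' θ) := by
  have hθ : θ ∈ Submodule.span B (Set.range (KaehlerDifferential.D A B)) := by
    rw [KaehlerDifferential.span_range_derivation]; trivial
  induction hθ using Submodule.span_induction with
  | mem z hz =>
    obtain ⟨f, rfl⟩ := hz
    have h1 := invCartier_smul_D (A := A) (p := p) (1 : B) f
    have h2 := invCartier_smul_D (A := A) (p := p) (1 : B') (algebraMap B B' f)
    rw [one_smul, one_pow, one_smul] at h1 h2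
    rw [KaehlerDifferential.map_D, h1, h2, clsMap_cls, map_smul, KaehlerDifferential.map_D,
      ← algebraMap_smul B' (f ^ (p - 1)), map_pow]
  | zero => simp
  | add a c _ _ ha hc => simp only [map_add, ha, hc]
  | smul c a _ ha =>
    rw [map_smul, clsMap_smul, ha, map_smul, ← algebraMap_smul B' c, map_smul]

lemma clsMap_eq_zero (g : B) [IsLocalization.Away g B'] {x : Tw A B p} (hx : clsMap p B' x = 0) :
    ∃ k : ℕ, g ^ k • x = 0 := by
  obtain ⟨η, rfl⟩ := cls_surjective x
  rw [clsMap_cls, cls_eq_zero] at hx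
  obtain ⟨h', hh'⟩ := hx
  obtain ⟨⟨h₀, _, j, rfl⟩, hj⟩ := IsLocalization.surj (Submonoid.powers g) h'
  have hj' : algebraMap B B' ((g ^ j) ^ p) * h' = algebraMap B B' ((g ^ j) ^ (p - 1) * h₀) := by
    rw [map_mul, ← hj]
    conv_lhs => rw [show p = (p - 1) + 1 from by have := (Fact.out : p.Prime).two_le; omega, pow_succ]
    rw [map_mul]
    ring
  have h0 : KaehlerDifferential.map A A B B'
      ((g ^ j) ^ p • η - KaehlerDifferential.D A B ((g ^ j) ^ (p - 1) * h₀)) = 0 := by
    rw [map_sub, map_smul, KaehlerDifferential.map_D, ← hj', ← algebraMap_smul B' ((g ^ j) ^ p),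
      map_pow (algebraMap B B'), Derivation.leibniz, D_pow (p := p), smul_zero, add_zero, hh',
      sub_self]
  obtain ⟨⟨_, m, rfl⟩, hm⟩ := (IsLocalizedModule.eq_zero_iff (Submonoid.powers g)
    (KaehlerDifferential.map A A B B')).1 h0
  refine ⟨j + m, ?_⟩
  rw [smul_cls, cls_eq_zero]
  refine ⟨(g ^ m) ^ p * ((g ^ j) ^ (p - 1) * h₀), ?_⟩
  have hm' : (g ^ m) • ((g ^ j) ^ p • η - KaehlerDifferential.D A B ((g ^ j) ^ (p - 1) * h₀)) = 0 := hm
  have h2 : (g ^ m) ^ p • ((g ^ j) ^ p • η -
      KaehlerDifferential.D A B ((g ^ j) ^ (p - 1) * h₀)) = 0 := by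
    rw [show (g ^ m) ^ p = (g ^ m) ^ (p - 1) * g ^ m by
        rw [← pow_succ, Nat.sub_add_cancel (Fact.out : p.Prime).one_le],
      mul_smul, hm', smul_zero]
  rw [smul_sub, sub_eq_zero] at h2
  rw [Derivation.leibniz, D_pow (p := p), smul_zero, add_zero, ← h2, ← mul_smul, ← mul_pow, pow_add,
    mul_comm (g ^ m)]

end Map

lemma isReduced_of_perfect (R : Type u) [CommRing R] (p : ℕ) [Fact p.Prime] [CharP R p] [PerfectRing R p] :
    IsReduced R := by
  refine ⟨fun x ⟨n, hn⟩ => ?_⟩
  have h1 : ∀ k, (frobenius R p)^[k] x = x ^ p ^ k := fun k => by rw [iterate_frobenius]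
  refine ((bijective_frobenius R p).1.iterate n) ?_
  rw [h1, iterate_map_zero,
    pow_eq_zero_of_le (Nat.le_of_lt (Nat.lt_pow_self (Fact.out : p.Prime).one_lt)) hn]

section Main

variable (p : ℕ) [Fact p.Prime] [CharP A p] [PerfectRing A p] [CharP B p] [Algebra.Smooth A B]

/-- What the localisation at a prime gives. -/
lemma exists_local (q : Ideal B) [q.IsPrime] :
    ∃ g ∉ q, CharP (Localization.Away g) p ∧ IsReduced (Localization.Away g) ∧
      ∃ (n : ℕ) (t : Fin n → Localization.Away g)
        (b : Module.Basis (Fin n) (Localization.Away g) (Ω[Localization.Away g⁄A])),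
        (∀ i, b i = KaehlerDifferential.D A (Localization.Away g) (t i)) ∧
          ∀ x, x ∈ monSpan p t := by
  obtain ⟨g, hg, n, t, b, hb⟩ := exists_coords (A := A) q
  haveI : Nontrivial (Localization.Away g) := by
    rw [← not_subsingleton_iff_nontrivial, IsLocalization.subsingleton_iff (M := Submonoid.powers g)]
    rintro ⟨k, hk⟩
    exact hg (Ideal.IsPrime.mem_of_pow_mem ‹_› k (by rw [show g ^ k = 0 from hk]; exact q.zero_mem))
  haveI hchar : CharP (Localization.Away g) p :=
    (CharP.charP_iff_prime_eq_zero (Fact.out : p.Prime)).2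
      (by rw [← map_natCast (algebraMap B (Localization.Away g)), CharP.cast_eq_zero, map_zero])
  haveI : IsReduced A := isReduced_of_perfect A p
  haveI : IsReduced B := SmoothRed.isReduced_of_smooth A B
  haveI : Algebra.FiniteType B (Localization.Away g) :=
    letI := IsLocalization.Away.finitePresentation g (S := Localization.Away g)
    Algebra.FiniteType.of_finitePresentation
  haveI : Algebra.FiniteType A (Localization.Away g) := Algebra.FiniteType.trans (S := B) inferInstance inferInstance
  refine ⟨g, hg, hchar, inferInstance, n, t, b, hb, monSpan_eq_top p t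
    (fun a => (bijective_frobenius A p).2 a) ?_⟩
  rw [← b.span_eq]
  exact congrArg _ (congrArg _ (funext fun i => (hb i).symm))

variable (A B) in
theorem invCartier_injective : Function.Injective (invCartier A B p) := by
  refine (injective_iff_map_eq_zero _).2 fun θ hθ => ?_
  suffices h : Ideal.torsionOf B (Ω[B⁄A]) θ = ⊤ by
    have h1 : (1 : B) ∈ Ideal.torsionOf B (Ω[B⁄A]) θ := h ▸ Submodule.mem_top
    simpa using h1
  by_contra h
  obtain ⟨q, hq, hle⟩ := Ideal.exists_le_maximal _ h
  obtain ⟨g, hg, _, _, n, t, b, hb, hgen⟩ := exists_local (A := A) p q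
  suffices h0 : KaehlerDifferential.map A A B (Localization.Away g) θ = 0 by
    obtain ⟨⟨_, k, rfl⟩, hk⟩ := (IsLocalizedModule.eq_zero_iff (Submonoid.powers g) _).1 h0
    exact hg (hq.isPrime.mem_of_pow_mem k (hle ((Ideal.mem_torsionOf_iff _ _).2 hk)))
  set η := KaehlerDifferential.map A A B (Localization.Away g) θ
  have h1 : invCartier A (Localization.Away g) p η = 0 := by
    rw [← clsMap_invCartier, hθ, map_zero]
  have h2 : invCartier A (Localization.Away g) p η =
      cls p (∑ i, (b.repr η i ^ p * t i ^ (p - 1)) • b i) := by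
    conv_lhs => rw [← b.sum_repr η]
    simp only [map_sum, hb, invCartier_smul_D, smul_smul]
  rw [h1, eq_comm, cls_eq_zero] at h2
  obtain ⟨h', hh'⟩ := h2
  refine b.ext_elem fun i => ?_
  rw [map_zero, Finsupp.zero_apply]
  refine cartier_injective b hb p hgen h' (fun i => b.repr η i) (fun i => ?_) i
  change b.repr (KaehlerDifferential.D A _ h') i = _
  rw [hh', b.repr_sum_self]

variable {d : ∀ q : ℕ, ↥(⋀[B]^q (Ω[B⁄A])) →ₗ[A] ↥(⋀[B]^(q + 1) (Ω[B⁄A]))}
  (hd : DeRham.IsDiff (KaehlerDifferential.D A B) d)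

include hd in
theorem exists_invCartier_eq {ω : Ω[B⁄A]} (hω : d 1 (form ω) = 0) :
    ∃ θ, invCartier A B p θ = cls p ω := by
  let I : Ideal B := (LinearMap.range (invCartier A B p)).comap
    (LinearMap.toSpanSingleton B (Tw A B p) (cls p ω))
  suffices h : I = ⊤ by
    obtain ⟨θ, hθ⟩ : (1 : B) ∈ I := h ▸ Submodule.mem_top
    exact ⟨θ, hθ.trans (one_smul _ _)⟩
  by_contra h
  obtain ⟨q, hq, hle⟩ := Ideal.exists_le_maximal _ h
  obtain ⟨g, hg, _, _, n, t, b, hb, hgen⟩ := exists_local (A := A) p q
  set ω' := KaehlerDifferential.map A A B (Localization.Away g) ω with hω'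
  obtain ⟨h', c, hc⟩ := exists_cartier b hb p hgen (sym_of_closed hd b hb hω)
  set θ' : Ω[Localization.Away g⁄A] := ∑ i, c i • b i with hθ'
  have h1 : invCartier A (Localization.Away g) p θ' = cls p ω' := by
    rw [← sub_eq_zero, hθ', map_sum]
    simp only [hb, invCartier_smul_D, smul_smul]
    rw [← map_sum, ← map_sub, cls_eq_zero]
    refine ⟨-h', ?_⟩
    rw [map_neg, D_eq_sum b h', ← b.sum_repr ω', ← Finset.sum_sub_distrib, ← Finset.sum_neg_distrib]
    refine Finset.sum_congr rfl fun i _ => ?_
    have hci : b.repr ω' i = pd b i h' + c i ^ p * t i ^ (p - 1) := hc i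
    rw [hci, ← hb, add_smul]
    abel
  obtain ⟨⟨θ₀, _, k, rfl⟩, hk⟩ :=
    IsLocalizedModule.surj (Submonoid.powers g) (KaehlerDifferential.map A A B (Localization.Away g)) θ'
  have hk' : algebraMap B (Localization.Away g) (g ^ k) • θ' =
      KaehlerDifferential.map A A B (Localization.Away g) θ₀ := by
    rw [algebraMap_smul]; exact hk
  obtain ⟨m, hm⟩ := clsMap_eq_zero p (Localization.Away g) g
    (x := invCartier A B p θ₀ - g ^ k • cls p ω) (by
      rw [map_sub, clsMap_smul, clsMap_invCartier, ← hk', map_smul, h1, clsMap_cls, sub_self])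
  refine hg (hq.isPrime.mem_of_pow_mem (m + k) (hle ⟨g ^ m • θ₀, ?_⟩))
  rw [map_smul, LinearMap.toSpanSingleton_apply, pow_add, mul_smul]
  exact sub_eq_zero.1 (by rw [← smul_sub]; exact hm)

end Main

end Groth.Agent.CartierOp
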