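import Groth.Agent.CartierOp.PBasis
import Groth.Agent.LogCartier.Proj

/-!
The Cartier isomorphism in degree one in coordinates.
-/

set_option autoImplicit false
set_option linter.style.haveILetI false
set_option linter.unusedSectionVars false

universe u

namespace Groth.Agent.CartierOp

variable {A B : Type u} [CommRing A] [CommRing B] [Algebra A B] {n : ℕ} {t : Fin n → B}
  (b : Module.Basis (Fin n) B (Ω[B⁄A])) (hb : ∀ i, b i = KaehlerDifferential.D A B (t i))

/-- A partial derivative. -/
noncomputable def pd (j : Fin n) : Derivation A B B :=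
  (b.coord j).compDer (KaehlerDifferential.D A B)

lemma D_eq_sum (f : B) : KaehlerDifferential.D A B f = ∑ i, pd b i f • b i :=
  (b.sum_repr _).symm

include hb in
lemma pd_t (i j : Fin n) : pd b j (t i) = if i = j then 1 else 0 := by
  change b.coord j (KaehlerDifferential.D A B (t i)) = _
  rw [← hb i, Module.Basis.coord_apply, Module.Basis.repr_self, Finsupp.single_apply]

include hb in
lemma derivation_eq_zero (X : Derivation A B B) (h : ∀ i, X (t i) = 0) : X = 0 := by
  have h0 : X.liftKaehlerDifferential = 0 := b.ext fun i => by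
    rw [hb i, Derivation.liftKaehlerDifferential_comp_D, h i, LinearMap.zero_apply]
  ext f
  rw [← Derivation.liftKaehlerDifferential_comp_D X f, h0]
  rfl

include hb in
lemma pd_comm (i j : Fin n) (f : B) : pd b i (pd b j f) = pd b j (pd b i f) := by
  have h0 : ⁅pd b i, pd b j⁆ = 0 := derivation_eq_zero b hb _ fun k => by
    rw [Derivation.commutator_apply, pd_t b hb, pd_t b hb]
    split_ifs <;> simp
  have := DFunLike.congr_fun h0 f
  rwa [Derivation.commutator_apply, Derivation.zero_apply, sub_eq_zero] at this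

/-- `t_j ∂_j` on the coefficients of a one-form, shifted at `j`. -/
noncomputable def T (t : Fin n → B) (j : Fin n) : Module.End A (Fin n → B) :=
  LinearMap.pi fun i : Fin n =>
    LinearMap.mulLeft A (t j) ∘ₗ (pd b j : B →ₗ[A] B) ∘ₗ
        LinearMap.proj (R := A) (φ := fun _ : Fin n => B) i +
      if i = j then LinearMap.proj (R := A) (φ := fun _ : Fin n => B) i else 0

lemma T_apply (j i : Fin n) (f : Fin n → B) :
    T b t j f i = t j * pd b j (f i) + if i = j then f i else 0 := by
  unfold T
  split_ifs with h <;> simp [h]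

/-- The coefficients of a closed one-form. -/
def Sym (f : Fin n → B) : Prop := ∀ i j, pd b j (f i) = pd b i (f j)

include hb in
lemma T_eq_of_sym {f : Fin n → B} (hf : Sym b f) (j : Fin n) :
    T b t j f = fun i => pd b i (t j * f j) := by
  funext i
  rw [T_apply, Derivation.leibniz, pd_t b hb, hf i j, smul_eq_mul, smul_eq_mul]
  by_cases h : j = i
  · subst h; simp
  · rw [if_neg (Ne.symm h), if_neg h, mul_zero]

include hb in
lemma sym_grad (h : B) : Sym b fun i => pd b i h := fun i j => pd_comm b hb j i h

include hb in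
lemma pd_prod_erase (j : Fin n) (e : Fin n → ℕ) :
    pd b j (∏ x ∈ Finset.univ.erase j, t x ^ e x) = 0 := by
  refine Finset.prod_induction _ (fun x => pd b j x = 0) (fun x y hx hy => ?_) (Derivation.map_one_eq_zero _)
    fun x hx => ?_
  · rw [Derivation.leibniz, hx, hy, smul_zero, smul_zero, add_zero]
  · rw [Derivation.leibniz_pow, pd_t b hb, if_neg (Finset.ne_of_mem_erase hx)]
    simp

variable (p : ℕ) [Fact p.Prime] [CharP B p]

lemma pd_pow (j : Fin n) (g : B) : pd b j (g ^ p) = 0 := by
  rw [Derivation.leibniz_pow, ← Nat.cast_smul_eq_nsmul B, CharP.cast_eq_zero, zero_smul]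

include hb in
lemma tmul_pd_tpow (j : Fin n) (e : Fin n → ℕ) :
    t j * pd b j (tpow t e) = (e j : B) * tpow t e := by
  classical
  rw [tpow, ← Finset.mul_prod_erase _ _ (Finset.mem_univ j), Derivation.leibniz]
  have h0 := pd_prod_erase b hb j e
  rw [h0, Derivation.leibniz_pow, pd_t b hb, if_pos rfl]
  simp only [smul_eq_mul, mul_zero, zero_add, mul_one, nsmul_eq_mul]
  rcases Nat.eq_zero_or_pos (e j) with h | h
  · rw [h]; simp
  · conv_rhs => rw [← Nat.sub_add_cancel h, pow_succ]
    rw [Nat.sub_add_cancel h]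
    ring

include hb in
lemma T_single (i j : Fin n) (g : B) (e : Fin n → ℕ) :
    T b t j (Pi.single i (g ^ p * tpow t e)) =
      (((e j + if i = j then 1 else 0 : ℕ)) : A) • Pi.single i (g ^ p * tpow t e) := by
  funext k
  rw [T_apply, Pi.smul_apply, Algebra.smul_def, map_natCast]
  by_cases hk : k = i
  · subst hk
    rw [Pi.single_eq_same, Derivation.leibniz, pd_pow b p, smul_zero, add_zero, smul_eq_mul,
      mul_left_comm, tmul_pd_tpow b hb]
    split_ifs <;> push_cast <;> ring
  · rw [Pi.single_eq_of_ne hk, map_zero, mul_zero, zero_add, mul_zero]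
    split_ifs <;> rfl

/-- The projector on coefficient tuples. -/
noncomputable def projT (t : Fin n → B) (js : List (Fin n)) : Module.End A (Fin n → B) :=
  LogCartier.proj (R := A) (V := fun _ => (Fin n → B)) (fun j _ => T b t j) (p - 1) js 0

include hb in
lemma sym_T {f : Fin n → B} (hf : Sym b f) (j : Fin n) : Sym b (T b t j f) := by
  rw [T_eq_of_sym b hb hf]
  exact sym_grad b hb _

include hb in
lemma sym_T_pow {f : Fin n → B} (hf : Sym b f) (j : Fin n) :
    ∀ m : ℕ, Sym b ((T b t j ^ m) f) ∧ (0 < m → ∃ h, (T b t j ^ m) f = fun i => pd b i h)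
  | 0 => ⟨hf, fun h => absurd h (lt_irrefl 0)⟩
  | m + 1 => by
    have h1 := (sym_T_pow hf j m).1
    have h2 : (T b t j ^ (m + 1)) f = T b t j ((T b t j ^ m) f) := by rw [pow_succ']; rfl
    exact ⟨h2 ▸ sym_T b hb h1 j, fun _ => ⟨t j * (T b t j ^ m) f j, h2.trans (T_eq_of_sym b hb h1 j)⟩⟩

include hb in
lemma sub_projT {f : Fin n → B} (hf : Sym b f) :
    ∀ js : List (Fin n), Sym b (projT b p t js f) ∧
      ∃ h, f - projT b p t js f = fun i => pd b i h
  | [] => ⟨hf, 0, by funext i; simp [projT, LogCartier.proj]⟩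
  | j :: js => by
    obtain ⟨h1, h, h2⟩ := sub_projT hf js
    obtain ⟨h3, h4⟩ := sym_T_pow b hb h1 j (p - 1)
    obtain ⟨h', h'e⟩ := h4 (by have := (Fact.out : p.Prime).two_le; omega)
    have e : projT b p t (j :: js) f =
        projT b p t js f - (T b t j ^ (p - 1)) (projT b p t js f) := rfl
    refine ⟨fun i k => ?_, h + h', ?_⟩
    · rw [e, Pi.sub_apply, Pi.sub_apply, map_sub, map_sub, h1 i k, h3 i k]
    · rw [e, sub_sub_eq_add_sub, add_sub_right_comm, h2, h'e]
      funext i
      rw [Pi.add_apply, map_add]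

lemma one_sub_pow (M : ℕ) :
    algebraMap A B ((1 : A) - (M : A) ^ (p - 1)) = if p ∣ M then 1 else 0 := by
  have hp : p.Prime := Fact.out
  rw [map_sub, map_pow, map_natCast, map_one]
  split_ifs with h
  · rw [(CharP.cast_eq_zero_iff B p M).mpr h, zero_pow (by have := hp.two_le; omega), sub_zero]
  · have h1 : ((M : ZMod p)) ≠ 0 := fun h0 => h ((CharP.cast_eq_zero_iff (ZMod p) p M).mp h0)
    have h2 := congrArg (ZMod.castHom dvd_rfl B) (ZMod.pow_card_sub_one_eq_one h1)
    rw [map_pow, map_natCast, map_one] at h2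
    rw [h2, sub_self]

include hb in
lemma projT_single (i : Fin n) (g : B) (e : Fin n → ℕ) :
    projT b p t (List.finRange n) (Pi.single i (g ^ p * tpow t e)) =
      if ∀ j, p ∣ e j + (if i = j then 1 else 0) then Pi.single i (g ^ p * tpow t e) else 0 := by
  have h := LogCartier.proj_eigen (R := A) (V := fun _ => (Fin n → B)) (fun j _ => T b t j) (p - 1)
    (q := 0) (fun j => T_single b hb p i j g e) (List.finRange n)
  refine h.trans ?_
  rw [← algebraMap_smul B, map_list_prod, List.map_map]
  simp only [Function.comp_def, one_sub_pow p]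
  split_ifs with h
  · rw [List.prod_eq_one, one_smul]
    rintro x hx
    obtain ⟨j, -, rfl⟩ := List.mem_map.mp hx
    rw [if_pos (h j)]
  · push Not at h
    obtain ⟨j, hj⟩ := h
    rw [List.prod_eq_zero, zero_smul]
    exact List.mem_map.mpr ⟨j, List.mem_finRange j, if_neg hj⟩

variable (hgen : ∀ x : B, x ∈ monSpan p t)

include hb hgen in
lemma exists_projT (f : Fin n → B) :
    ∃ g : Fin n → B, projT b p t (List.finRange n) f = fun i => g i ^ p * t i ^ (p - 1) := by
  classical
  have hp : p.Prime := Fact.out
  have hadd : ∀ u v : Fin n → B, (fun i => (u i + v i) ^ p * t i ^ (p - 1)) =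
      (fun i => u i ^ p * t i ^ (p - 1)) + fun i => v i ^ p * t i ^ (p - 1) := fun u v => by
    funext i
    rw [add_pow_char, add_mul]; rfl
  suffices h : ∀ (i : Fin n) (x : B), ∃ g : Fin n → B,
      projT b p t (List.finRange n) (Pi.single i x) = fun k => g k ^ p * t k ^ (p - 1) by
    rw [← Finset.univ_sum_single f, map_sum]
    refine Finset.sum_induction _ (fun F => ∃ g : Fin n → B, F = fun k => g k ^ p * t k ^ (p - 1))
      (fun u v hu hv => ?_) ⟨0, by funext k; simp [hp.ne_zero]⟩ fun i _ => h i _
    obtain ⟨g, rfl⟩ := hu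
    obtain ⟨g', rfl⟩ := hv
    exact ⟨g + g', (hadd g g').symm⟩
  intro i x
  refine monSpan_induction p t (P := fun x => ∃ g : Fin n → B,
      projT b p t (List.finRange n) (Pi.single i x) = fun k => g k ^ p * t k ^ (p - 1))
    ⟨0, by funext k; simp [hp.ne_zero]⟩ ?_ ?_ ?_ (hgen x)
  · rintro u v ⟨g, hg⟩ ⟨g', hg'⟩
    exact ⟨g + g', by rw [Pi.single_add, map_add, hg, hg']; exact (hadd g g').symm⟩
  · rintro u ⟨g, hg⟩
    refine ⟨-g, ?_⟩
    rw [Pi.single_neg, map_neg, hg]
    funext k
    have hk := congrFun (hadd g (-g)) k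
    simp only [Pi.add_apply, Pi.neg_apply, add_neg_cancel, zero_pow hp.ne_zero, zero_mul] at hk ⊢
    exact neg_eq_of_add_eq_zero_right hk.symm
  · intro g e he
    rw [projT_single b hb p]
    split_ifs with h
    · refine ⟨Pi.single i g, ?_⟩
      funext k
      by_cases hk : k = i
      · subst hk
        rw [Pi.single_eq_same, Pi.single_eq_same]
        have he' : tpow t e = t k ^ (p - 1) := by
          rw [tpow, Finset.prod_eq_single k]
          · have h1 := h k
            rw [if_pos rfl] at h1
            have := he k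
            have := Nat.le_of_dvd (Nat.succ_pos _) h1
            congr 1
            omega
          · intro j _ hjk
            have h1 := h j
            rw [if_neg (Ne.symm hjk), add_zero] at h1
            rw [Nat.eq_zero_of_dvd_of_lt h1 (he j), pow_zero]
          · simp
        rw [he']
      · rw [Pi.single_eq_of_ne hk, Pi.single_eq_of_ne hk, zero_pow hp.ne_zero, zero_mul]
    · exact ⟨0, by funext k; simp [hp.ne_zero]⟩

include hb hgen in
/-- A closed form is exact plus the inverse Cartier image. -/
theorem exists_cartier {f : Fin n → B} (hf : Sym b f) :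
    ∃ (h : B) (g : Fin n → B), ∀ i, f i = pd b i h + g i ^ p * t i ^ (p - 1) := by
  obtain ⟨g, hg⟩ := exists_projT b hb p hgen f
  obtain ⟨-, h, hh⟩ := sub_projT b hb p hf (List.finRange n)
  refine ⟨h, g, fun i => ?_⟩
  have := congrFun hh i
  rw [Pi.sub_apply, hg] at this
  exact sub_eq_iff_eq_add.mp this

include hb in
lemma iterate_pd_mul (i : Fin n) (c : B) (hc : pd b i c = 0) :
    ∀ (k m : ℕ), (pd b i)^[k] (c * t i ^ m) = (m.descFactorial k : B) * (c * t i ^ (m - k))
  | 0, m => by simp
  | k + 1, m => by
    rw [Function.iterate_succ_apply', iterate_pd_mul i c hc k m, Derivation.leibniz,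
      Derivation.map_natCast, Derivation.leibniz, hc, Derivation.leibniz_pow, pd_t b hb, if_pos rfl,
      Nat.descFactorial_succ, show m - k - 1 = m - (k + 1) by omega]
    push_cast
    simp only [smul_eq_mul, nsmul_eq_mul]
    ring

include hb hgen in
/-- An exact inverse Cartier image vanishes. -/
theorem cartier_injective [IsReduced B] (h : B) (g : Fin n → B)
    (hh : ∀ i, pd b i h = g i ^ p * t i ^ (p - 1)) (i : Fin n) : g i = 0 := by
  classical
  have hp : p.Prime := Fact.out
  have h1 : (pd b i)^[p] h = 0 := by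
    refine monSpan_induction p t (P := fun x => (pd b i)^[p] x = 0) ?_ ?_ ?_ ?_ (hgen h)
    · exact Function.iterate_fixed (map_zero _) _
    · intro x y hx hy
      rw [iterate_map_add, hx, hy, add_zero]
    · intro x hx
      rw [iterate_map_neg, hx, neg_zero]
    · intro c e he
      rw [tpow, ← Finset.mul_prod_erase _ _ (Finset.mem_univ i),
        mul_comm (t i ^ e i), ← mul_assoc, iterate_pd_mul b hb i _ ?_ p (e i),
        Nat.descFactorial_of_lt (he i), Nat.cast_zero, zero_mul]
      rw [Derivation.leibniz, pd_pow b p, smul_zero, add_zero]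
      rw [pd_prod_erase b hb i e, smul_zero]
  rw [show p = (p - 1) + 1 by have := hp.two_le; omega, Function.iterate_succ_apply, hh i,
    iterate_pd_mul b hb i _ (pd_pow b p i (g i)), Nat.descFactorial_self, Nat.sub_self, pow_zero,
    mul_one] at h1
  have hu : IsUnit ((p - 1).factorial : B) := (CharP.isUnit_natCast_iff hp).2 fun hd => by
    have := hp.dvd_factorial.1 hd
    have := hp.two_le
    omega
  exact IsNilpotent.eq_zero ⟨p, (hu.mul_right_eq_zero).mp h1⟩

end Groth.Agent.CartierOp
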