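import Mathlib

/-!
Generation of an algebra over its `p`-th powers by monomials in coordinates.
-/

set_option autoImplicit false
set_option linter.style.haveILetI false
set_option linter.unusedSectionVars false

universe u

namespace Groth.Agent.CartierOp

open scoped TensorProduct

/-- An unramified algebra over a field all of whose elements have a power in the field is the field. -/
theorem mem_range_of_pow_mem (K R : Type u) [Field K] [CommRing R] [Algebra K R]
    [Algebra.FormallyUnramified K R] [Algebra.EssFiniteType K R] (p : ℕ) [Fact p.Prime] [CharP K p]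
    (h : ∀ x : R, ∃ c : K, algebraMap K R c = x ^ p) (x : R) :
    ∃ c : K, algebraMap K R c = x := by
  by_cases hR : Subsingleton R
  · exact ⟨0, Subsingleton.elim _ _⟩
  haveI := not_subsingleton_iff_nontrivial.mp hR
  haveI : Nontrivial (R ⊗[K] R) := by
    rw [← not_subsingleton_iff_nontrivial, ← rank_zero_iff (R := K), rank_tensorProduct',
      mul_eq_zero, or_self, rank_zero_iff]
    exact not_subsingleton R
  haveI : CharP (R ⊗[K] R) p := charP_of_injective_ringHom (algebraMap K (R ⊗[K] R)).injective p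
  haveI : Algebra.FormallyUnramified K (R ⊗[K] R) := Algebra.FormallyUnramified.comp K R (R ⊗[K] R)
  haveI : Algebra.EssFiniteType K (R ⊗[K] R) := Algebra.EssFiniteType.comp K R (R ⊗[K] R)
  haveI : IsReduced (R ⊗[K] R) := Algebra.FormallyUnramified.isReduced_of_field K _
  obtain ⟨c, hc⟩ := h x
  have hp : p.Prime := Fact.out
  have h1 : (1 ⊗ₜ x - x ⊗ₜ 1 : R ⊗[K] R) ^ p = 0 := by
    rw [sub_pow_char, Algebra.TensorProduct.tmul_pow, one_pow, Algebra.TensorProduct.tmul_pow,
      one_pow, ← hc, Algebra.algebraMap_eq_smul_one, TensorProduct.smul_tmul, sub_self]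
  have h2 : (1 ⊗ₜ x : R ⊗[K] R) = x ⊗ₜ 1 := sub_eq_zero.mp (IsNilpotent.eq_zero ⟨p, h1⟩)
  obtain ⟨φ, hφ⟩ := Module.Projective.exists_dual_ne_zero K (one_ne_zero : (1 : R) ≠ 0)
  let Λ : R ⊗[K] R →ₗ[K] R := TensorProduct.lift ((LinearMap.lsmul K R).flip.compl₂ φ)
  have h3 := congrArg Λ h2
  simp only [Λ, TensorProduct.lift.tmul, LinearMap.compl₂_apply, LinearMap.flip_apply,
    LinearMap.lsmul_apply] at h3
  refine ⟨φ x * (φ 1)⁻¹, ?_⟩
  have h4 := congrArg ((φ 1)⁻¹ • ·) h3
  simp only [smul_smul, inv_mul_cancel₀ hφ, one_smul] at h4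
  rw [Algebra.algebraMap_eq_smul_one, mul_comm, h4]

variable {A B : Type u} [CommRing A] [CommRing B] [Algebra A B] (p : ℕ) [Fact p.Prime] {n : ℕ}
  (t : Fin n → B)

/-- A monomial in the coordinates. -/
def tpow (e : Fin n → ℕ) : B := ∏ i, t i ^ e i

lemma tpow_mul (e e' : Fin n → ℕ) : tpow t e * tpow t e' = tpow t (e + e') := by
  simp [tpow, ← Finset.prod_mul_distrib, pow_add]

/-- Sums of `g ^ p * t ^ e`. -/
def monSpan : AddSubgroup B := AddSubgroup.closure {x | ∃ (g : B) (e : Fin n → ℕ), g ^ p * tpow t e = x}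

lemma mul_mem_monSpan {x y : B} (hx : x ∈ monSpan p t) (hy : y ∈ monSpan p t) :
    x * y ∈ monSpan p t := by
  induction hx using AddSubgroup.closure_induction with
  | mem z hz =>
    obtain ⟨g, e, rfl⟩ := hz
    induction hy using AddSubgroup.closure_induction with
    | mem z hz =>
      obtain ⟨g', e', rfl⟩ := hz
      exact AddSubgroup.subset_closure ⟨g * g', e + e', by rw [← tpow_mul, mul_pow]; ring⟩
    | zero => rw [mul_zero]; exact zero_mem _
    | add a b _ _ ha hb => rw [mul_add]; exact add_mem ha hb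
    | neg a _ ha => rw [mul_neg]; exact neg_mem ha
  | zero => rw [zero_mul]; exact zero_mem _
  | add a b _ _ ha hb => rw [add_mul]; exact add_mem ha hb
  | neg a _ ha => rw [neg_mul]; exact neg_mem ha

theorem monSpan_induction {P : B → Prop} (h0 : P 0) (hadd : ∀ x y, P x → P y → P (x + y))
    (hneg : ∀ x, P x → P (-x))
    (hgen : ∀ (g : B) (e : Fin n → ℕ), (∀ i, e i < p) → P (g ^ p * tpow t e))
    {x : B} (hx : x ∈ monSpan p t) : P x := by
  induction hx using AddSubgroup.closure_induction with
  | mem z hz =>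
    obtain ⟨g, e, rfl⟩ := hz
    have h : g ^ p * tpow t e = (g * tpow t fun i => e i / p) ^ p * tpow t fun i => e i % p := by
      simp only [tpow, mul_pow, ← Finset.prod_pow, ← pow_mul, mul_assoc, ← Finset.prod_mul_distrib,
        ← pow_add, Nat.div_add_mod']
    rw [h]
    exact hgen _ _ fun i => Nat.mod_lt _ (Fact.out : p.Prime).pos
  | zero => exact h0
  | add a b _ _ ha hb => exact hadd a b ha hb
  | neg a _ ha => exact hneg a ha

variable [CharP B p]

/-- Coordinates generate over the `p`-th powers. -/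
theorem monSpan_eq_top [Algebra.FiniteType A B] (hA : ∀ a : A, ∃ a', a' ^ p = a)
    (hspan : Submodule.span B (Set.range fun i => KaehlerDifferential.D A B (t i)) = ⊤) (x : B) :
    x ∈ monSpan p t := by
  let C : Subalgebra A B := Algebra.adjoin A ((Set.range fun g : B => g ^ p) ∪ Set.range t)
  have hmono : ∀ (g : B) (e : Fin n → ℕ), g ^ p * tpow t e ∈ monSpan p t := fun g e =>
    AddSubgroup.subset_closure ⟨g, e, rfl⟩
  suffices h : C = ⊤ by
    have hx : x ∈ C := h ▸ Algebra.mem_top
    induction hx using Algebra.adjoin_induction with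
    | mem z hz =>
      rcases hz with ⟨g, rfl⟩ | ⟨i, rfl⟩
      · simpa [tpow] using hmono g 0
      · simpa [tpow, Pi.single_apply, apply_ite (t _ ^ ·), pow_ite] using hmono 1 (Pi.single i 1)
    | algebraMap a =>
      obtain ⟨a', rfl⟩ := hA a
      simpa [tpow] using hmono (algebraMap A B a') 0
    | add a b _ _ ha hb => exact add_mem ha hb
    | mul a b _ _ ha hb => exact mul_mem_monSpan p t ha hb
  haveI : Algebra.FiniteType C B := Algebra.FiniteType.of_restrictScalars_finiteType A C B
  have hpow : ∀ g : B, g ^ p ∈ C := fun g => Algebra.subset_adjoin (Or.inl ⟨g, rfl⟩)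
  haveI : Algebra.IsIntegral C B := ⟨fun g => ⟨Polynomial.X ^ p - Polynomial.C ⟨g ^ p, hpow g⟩,
    Polynomial.monic_X_pow_sub_C _ (Fact.out : p.Prime).ne_zero, by
      simp only [Polynomial.eval₂_sub, Polynomial.eval₂_pow, Polynomial.eval₂_X, Polynomial.eval₂_C]
      exact sub_self _⟩⟩
  haveI : Module.Finite C B := Algebra.IsIntegral.finite
  haveI : Algebra.FormallyUnramified C B := by
    refine ⟨subsingleton_of_forall_eq 0 fun ω => ?_⟩
    obtain ⟨ω, rfl⟩ := KaehlerDifferential.map_surjective A C B ω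
    have hω : ω ∈ Submodule.span B (Set.range fun i => KaehlerDifferential.D A B (t i)) :=
      hspan ▸ Submodule.mem_top
    induction hω using Submodule.span_induction with
    | mem z hz =>
      obtain ⟨i, rfl⟩ := hz
      simp only [KaehlerDifferential.map_D]
      exact (KaehlerDifferential.D C B).map_algebraMap
        ⟨t i, Algebra.subset_adjoin (Or.inr ⟨i, rfl⟩)⟩
    | zero => simp
    | add a b _ _ ha hb => rw [map_add, ha, hb, add_zero]
    | smul c a _ ha => rw [map_smul, ha, smul_zero]
  let C₁ : Submodule C B := LinearMap.range (Algebra.linearMap C B)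
  suffices h : C₁ = ⊤ by
    refine Algebra.eq_top_iff.mpr fun y => ?_
    obtain ⟨c, rfl⟩ : y ∈ C₁ := h ▸ Submodule.mem_top
    exact c.2
  rw [← Submodule.Quotient.subsingleton_iff]
  let N := B ⧸ C₁
  have hN : ∀ m : Ideal C, m.IsMaximal → (⊤ : Submodule C N) ≤ m • ⊤ := fun m hm => by
    letI := Ideal.Quotient.field m
    by_cases hB : Subsingleton (B ⧸ m.map (algebraMap C B))
    · rintro q -
      obtain ⟨y, rfl⟩ := Submodule.Quotient.mk_surjective C₁ q
      have hy : y ∈ m • (⊤ : Submodule C B) := by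
        rw [Ideal.smul_top_eq_map, Submodule.restrictScalars_mem,
          Ideal.Quotient.subsingleton_iff.mp hB]
        trivial
      have := Submodule.mem_map_of_mem (f := C₁.mkQ) hy
      rw [Submodule.map_smul''] at this
      exact Submodule.smul_mono le_rfl le_top this
    haveI := not_subsingleton_iff_nontrivial.mp hB
    haveI : CharP (B ⧸ m.map (algebraMap C B)) p := CharP.quotient' p _ fun k hk => by
      have h1 : ((k : B ⧸ m.map (algebraMap C B))) = 0 := by
        rw [← map_natCast (Ideal.Quotient.mk _), Ideal.Quotient.eq_zero_iff_mem]; exact hk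
      by_contra hne
      have h2 : IsUnit (k : B) := (CharP.isUnit_natCast_iff (Fact.out : p.Prime)).mpr fun hd =>
        hne ((CharP.cast_eq_zero_iff B p k).mpr hd)
      have h3 := h2.map (Ideal.Quotient.mk (m.map (algebraMap C B)))
      rw [map_natCast, h1] at h3
      exact not_isUnit_zero h3
    haveI : CharP (C ⧸ m) p :=
      (RingHom.charP_iff (algebraMap (C ⧸ m) (B ⧸ m.map (algebraMap C B)))
        (RingHom.injective _) p).mpr inferInstance
    rintro q -
    obtain ⟨y, rfl⟩ := Submodule.Quotient.mk_surjective C₁ q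
    obtain ⟨c, hc⟩ := mem_range_of_pow_mem (C ⧸ m) (B ⧸ m.map (algebraMap C B)) p (fun z => by
      obtain ⟨z, rfl⟩ := Ideal.Quotient.mk_surjective z
      exact ⟨Ideal.Quotient.mk m ⟨z ^ p, hpow z⟩, map_pow (Ideal.Quotient.mk _) z p⟩)
      (Ideal.Quotient.mk _ y)
    obtain ⟨c, rfl⟩ := Ideal.Quotient.mk_surjective c
    have hy : y - algebraMap C B c ∈ m • (⊤ : Submodule C B) := by
      rw [Ideal.smul_top_eq_map, Submodule.restrictScalars_mem, ← Ideal.Quotient.eq_zero_iff_mem,
        map_sub, ← hc]
      exact sub_self _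
    have := Submodule.mem_map_of_mem (f := C₁.mkQ) hy
    rw [Submodule.map_smul''] at this
    have h1 : C₁.mkQ (y - algebraMap C B c) = Submodule.Quotient.mk y := by
      rw [map_sub, Submodule.mkQ_apply, Submodule.mkQ_apply,
        (Submodule.Quotient.mk_eq_zero C₁).mpr (show algebraMap C B c ∈ C₁ from ⟨c, rfl⟩), sub_zero]
    rw [h1] at this
    exact Submodule.smul_mono le_rfl le_top this
  let I := Module.annihilator C N
  suffices h : I = ⊤ by
    refine subsingleton_of_forall_eq 0 fun q => ?_
    have h1 : (1 : C) ∈ I := h ▸ Submodule.mem_top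
    simpa using Module.mem_annihilator.mp h1 q
  by_contra h
  obtain ⟨m, hm, hle⟩ := Ideal.exists_le_maximal I h
  obtain ⟨r, hr, hr'⟩ := Submodule.exists_sub_one_mem_and_smul_eq_zero_of_fg_of_le_smul m ⊤
    Module.Finite.fg_top (hN m hm)
  have h2 : r ∈ m := hle (Module.mem_annihilator.mpr fun q => hr' q Submodule.mem_top)
  exact hm.ne_top ((Ideal.eq_top_iff_one _).mpr (by simpa using sub_mem h2 hr))

end Groth.Agent.CartierOp
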