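import Groth.Agent.CartierOp.Local
import Groth.Agent.DRPoincare.Basic
import Groth.Agent.DRKaehler.Basic

/-!
The inverse Cartier map `f dg ↦ [f^p g^(p-1) dg]` and closed one-forms.
-/

set_option autoImplicit false
set_option linter.style.haveILetI false
set_option linter.unusedSectionVars false

universe u

open exteriorPower

namespace Groth.Agent.CartierOp

variable (A B : Type u) [CommRing A] [CommRing B] [Algebra A B]

/-- The exact one-forms. -/
noncomputable def exactForms : Submodule A (Ω[B⁄A]) :=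
  LinearMap.range (KaehlerDifferential.D A B : B →ₗ[A] Ω[B⁄A])

/-- One-forms modulo exact forms, with functions acting through `p`-th powers. -/
def Tw (_p : ℕ) : Type u := Ω[B⁄A] ⧸ exactForms A B

noncomputable instance (p : ℕ) : AddCommGroup (Tw A B p) :=
  inferInstanceAs (AddCommGroup (Ω[B⁄A] ⧸ exactForms A B))

variable {A B} {p : ℕ}

/-- The class of a form. -/
noncomputable def cls (p : ℕ) : Ω[B⁄A] →+ Tw A B p := (exactForms A B).mkQ.toAddMonoidHom

lemma cls_surjective (x : Tw A B p) : ∃ ω, cls p ω = x := Submodule.mkQ_surjective _ x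

lemma cls_eq_zero {ω : Ω[B⁄A]} : cls p ω = 0 ↔ ∃ h, KaehlerDifferential.D A B h = ω :=
  Submodule.Quotient.mk_eq_zero _

variable [Fact p.Prime] [CharP B p]

lemma D_pow (f : B) : KaehlerDifferential.D A B (f ^ p) = 0 := by
  rw [Derivation.leibniz_pow, ← Nat.cast_smul_eq_nsmul B, CharP.cast_eq_zero, zero_smul]

/-- The action of a function. -/
noncomputable def powSmul (p : ℕ) [Fact p.Prime] [CharP B p] (f : B) : Tw A B p →+ Tw A B p :=
  QuotientAddGroup.map _ _ (DistribSMul.toAddMonoidHom (Ω[B⁄A]) (f ^ p)) fun ω hω => by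
    obtain ⟨h, rfl⟩ := (hω : ω ∈ exactForms A B)
    refine ⟨f ^ p * h, ?_⟩
    change KaehlerDifferential.D A B (f ^ p * h) = f ^ p • KaehlerDifferential.D A B h
    rw [Derivation.leibniz, D_pow, smul_zero, add_zero]

lemma powSmul_cls (f : B) (ω : Ω[B⁄A]) : powSmul p f (cls p ω) = cls p (f ^ p • ω) := rfl

/-- The action as a ring map. -/
noncomputable def powSmulHom (p : ℕ) [Fact p.Prime] [CharP B p] : B →+* AddMonoid.End (Tw A B p) where
  toFun := powSmul p
  map_one' := by
    refine AddMonoidHom.ext fun x => ?_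
    obtain ⟨ω, rfl⟩ := cls_surjective x
    rw [powSmul_cls, one_pow, one_smul]
    rfl
  map_mul' f g := by
    refine AddMonoidHom.ext fun x => ?_
    obtain ⟨ω, rfl⟩ := cls_surjective x
    change powSmul p (f * g) (cls p ω) = powSmul p f (powSmul p g (cls p ω))
    rw [powSmul_cls, powSmul_cls, powSmul_cls, mul_pow, mul_smul]
  map_zero' := by
    refine AddMonoidHom.ext fun x => ?_
    obtain ⟨ω, rfl⟩ := cls_surjective x
    rw [powSmul_cls, zero_pow (Fact.out : p.Prime).ne_zero, zero_smul, map_zero]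
    rfl
  map_add' f g := by
    refine AddMonoidHom.ext fun x => ?_
    obtain ⟨ω, rfl⟩ := cls_surjective x
    change powSmul p (f + g) (cls p ω) = powSmul p f (cls p ω) + powSmul p g (cls p ω)
    rw [powSmul_cls, powSmul_cls, powSmul_cls, add_pow_char, add_smul, map_add]

noncomputable instance : Module B (Tw A B p) := Module.compHom _ (powSmulHom (A := A) (B := B) p)

noncomputable instance : Module A (Tw A B p) := Module.compHom _ (algebraMap A B)

instance : IsScalarTower A B (Tw A B p) := IsScalarTower.of_algebraMap_smul fun _ _ => rfl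

lemma smul_cls (f : B) (ω : Ω[B⁄A]) : f • cls p ω = cls p (f ^ p • ω) := rfl

/-- `(a + b)^(p-1) d(a+b) - a^(p-1) da - b^(p-1) db` is exact. -/
lemma exists_D_eq (a b : B) : ∃ h, KaehlerDifferential.D A B h =
    (a + b) ^ (p - 1) • KaehlerDifferential.D A B (a + b) - a ^ (p - 1) • KaehlerDifferential.D A B a -
      b ^ (p - 1) • KaehlerDifferential.D A B b := by
  have hp : p.Prime := Fact.out
  obtain ⟨q, rfl⟩ : ∃ q, p = q + 1 := ⟨p - 1, by have := hp.two_le; omega⟩
  refine ⟨∑ k ∈ Finset.range q, (((q + 1).choose (k + 1) / (q + 1) : ℕ) : B) * (a ^ (k + 1) * b ^ (q - k)), ?_⟩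
  have hdvd : ∀ k ∈ Finset.range q, (q + 1) ∣ (q + 1).choose (k + 1) := fun k hk =>
    hp.dvd_choose_self (Nat.succ_ne_zero k) (by have := Finset.mem_range.mp hk; omega)
  have c1 : ∀ k ∈ Finset.range q, (k + 1) * ((q + 1).choose (k + 1) / (q + 1)) = q.choose k := fun k hk => by
    obtain ⟨c, hc⟩ := hdvd k hk
    have h1 := Nat.add_one_mul_choose_eq q k
    rw [hc, Nat.mul_div_cancel_left _ q.succ_pos]
    rw [hc] at h1
    have h1' : (q + 1) * q.choose k = (q + 1) * (c * (k + 1)) := h1.trans (mul_assoc _ _ _)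
    rw [Nat.mul_left_cancel q.succ_pos h1', mul_comm]
  have c2 : ∀ k ∈ Finset.range q, (q - k) * ((q + 1).choose (k + 1) / (q + 1)) = q.choose (k + 1) := fun k hk => by
    have e1 := c1 k hk
    have hk' : k < q := Finset.mem_range.mp hk
    have e3 : q.choose (k + 1) * (k + 1) = q.choose k * (q - k) := Nat.choose_succ_right_eq q k
    rw [← e1] at e3
    have : q.choose (k + 1) * (k + 1) = ((q - k) * ((q + 1).choose (k + 1) / (q + 1))) * (k + 1) := by
      rw [e3]; ring
    exact (Nat.mul_right_cancel (Nat.succ_pos k) this).symm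
  have e : ∀ k ∈ Finset.range q, KaehlerDifferential.D A B
      ((((q + 1).choose (k + 1) / (q + 1) : ℕ) : B) * (a ^ (k + 1) * b ^ (q - k))) =
      ((q.choose k : B) * a ^ k * b ^ (q - k)) • KaehlerDifferential.D A B a +
        ((q.choose (k + 1) : B) * a ^ (k + 1) * b ^ (q - (k + 1))) • KaehlerDifferential.D A B b := by
    intro k hk
    rw [← c1 k hk, ← c2 k hk, Derivation.leibniz, Derivation.map_natCast, smul_zero, add_zero,
      Derivation.leibniz, Derivation.leibniz_pow, Derivation.leibniz_pow,
      show q - k - 1 = q - (k + 1) by omega, Nat.add_sub_cancel]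
    simp only [← Nat.cast_smul_eq_nsmul B, smul_smul, smul_add]
    rw [add_comm]
    congr 2 <;> push_cast <;> ring
  have key : (∑ k ∈ Finset.range q, (q.choose k : B) * a ^ k * b ^ (q - k)) = (a + b) ^ q - a ^ q := by
    rw [add_pow, Finset.sum_range_succ, Nat.choose_self, Nat.sub_self]
    simp only [pow_zero, mul_one, Nat.cast_one, add_sub_cancel_right]
    exact Finset.sum_congr rfl fun k _ => by ring
  have key' : (∑ k ∈ Finset.range q, (q.choose (k + 1) : B) * a ^ (k + 1) * b ^ (q - (k + 1))) =
      (a + b) ^ q - b ^ q := by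
    rw [add_pow, Finset.sum_range_succ']
    simp only [pow_zero, one_mul, Nat.sub_zero, Nat.choose_zero_right, Nat.cast_one, mul_one,
      add_sub_cancel_right]
    exact Finset.sum_congr rfl fun k _ => by ring
  rw [map_sum, Finset.sum_congr rfl e, Finset.sum_add_distrib, ← Finset.sum_smul, ← Finset.sum_smul,
    key, key', Nat.add_sub_cancel, map_add, smul_add, sub_smul, sub_smul]
  abel

variable (A B p) in
/-- `g ↦ [g^(p-1) dg]`. -/
noncomputable def dlogDer : Derivation A B (Tw A B p) :=
  have hmul : ∀ a b : B, (a * b) ^ (p - 1) • KaehlerDifferential.D A B (a * b) =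
      a ^ p • (b ^ (p - 1) • KaehlerDifferential.D A B b) +
        b ^ p • (a ^ (p - 1) • KaehlerDifferential.D A B a) := fun a b => by
    rw [Derivation.leibniz, smul_add, mul_pow]
    conv_rhs => rw [show p = (p - 1) + 1 from by have := (Fact.out : p.Prime).two_le; omega]
    simp only [smul_smul, Nat.add_sub_cancel, pow_succ]
    congr 2 <;> ring
  Derivation.mk'
    { toFun := fun g => cls p (g ^ (p - 1) • KaehlerDifferential.D A B g)
      map_add' := fun a b => by
        rw [← map_add, ← sub_eq_zero, ← map_sub, cls_eq_zero]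
        obtain ⟨h, hh⟩ := exists_D_eq (A := A) (p := p) a b
        exact ⟨h, hh.trans (sub_sub _ _ _)⟩
      map_smul' := fun c a => by
        rw [Algebra.smul_def, RingHom.id_apply, ← algebraMap_smul B c (cls p _), smul_cls]
        congr 1
        rw [hmul, Derivation.map_algebraMap, smul_zero, smul_zero, add_zero] }
    fun a b => by
      simp only [LinearMap.coe_mk, AddHom.coe_mk]
      rw [smul_cls, smul_cls, ← map_add, hmul]

variable (A B p) in
/-- The inverse Cartier map. -/
noncomputable def invCartier : Ω[B⁄A] →ₗ[B] Tw A B p := (dlogDer A B p).liftKaehlerDifferential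

lemma invCartier_smul_D (f g : B) :
    invCartier A B p (f • KaehlerDifferential.D A B g) =
      cls p (f ^ p • (g ^ (p - 1) • KaehlerDifferential.D A B g)) := by
  rw [map_smul, invCartier, Derivation.liftKaehlerDifferential_comp_D, ← smul_cls]
  rfl

section Closed

variable {d : ∀ q : ℕ, ↥(⋀[B]^q (Ω[B⁄A])) →ₗ[A] ↥(⋀[B]^(q + 1) (Ω[B⁄A]))}
  (hd : DeRham.IsDiff (KaehlerDifferential.D A B) d)

/-- The one-form in degree one. -/
noncomputable abbrev form (ω : Ω[B⁄A]) : ↥(⋀[B]^1 (Ω[B⁄A])) := (oneEquiv B (Ω[B⁄A])).symm ω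

lemma form_smul_D (f g : B) :
    form (f • KaehlerDifferential.D A B g) = DeRham.gen (KaehlerDifferential.D A B) 1 f ![g] := by
  refine (oneEquiv B (Ω[B⁄A])).injective ?_
  rw [LinearEquiv.apply_symm_apply, DeRham.gen, map_smul, oneEquiv_ιMulti]
  rfl

include hd in
lemma d_form_smul_D (f g : B) : d 1 (form (f • KaehlerDifferential.D A B g)) =
    DRPoincare.wedge 1 (KaehlerDifferential.D A B f)
      (ιMulti B 1 fun _ => KaehlerDifferential.D A B g) := by
  rw [form_smul_D, hd.1, DRPoincare.wedge_ιMulti]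
  congr 1
  funext k
  fin_cases k <;> rfl

include hd in
lemma d_one_pow_smul (f g : B) : d 1 (form (f ^ p • (g ^ (p - 1) • KaehlerDifferential.D A B g))) = 0 := by
  rw [smul_smul, d_form_smul_D hd, Derivation.leibniz, D_pow (p := p), smul_zero, add_zero,
    Derivation.leibniz_pow, ← Nat.cast_smul_eq_nsmul B, smul_smul, smul_smul,
    DRPoincare.wedge_smul, DRPoincare.wedge_ιMulti,
    AlternatingMap.map_eq_zero_of_eq _ _ (i := 0) (j := 1) rfl (by decide), smul_zero]

end Closed

end Groth.Agent.CartierOp
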